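import Groth.Agent.W4bk4grassmannian.K678.CMOpen
import Mathlib.RingTheory.MvPolynomial.Homogeneous
import Mathlib.RingTheory.Ideal.Quotient.Operations
import Mathlib.Algebra.Polynomial.Roots

/-!
# A cone is Cohen–Macaulay iff it is so at its vertex

`isCohenMacaulayRing_of_vertex`: for an infinite field `K`, a finite set `σ` of variables and an ideal `I` of
`K[x_i : i ∈ σ]` generated by homogeneous polynomials, contained in the ideal `m` of polynomials without constant
term: if `(K[x]/I)_m` is Cohen–Macaulay, so is `K[x]/I`.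
-/

set_option autoImplicit false
universe u

namespace K678.Cone

open MvPolynomial

variable {K : Type u} [Field K] {σ : Type}

/-- Scaling the variables by `c`. -/
noncomputable def scale (c : K) : MvPolynomial σ K →ₐ[K] MvPolynomial σ K :=
  aeval fun i => C c * X i

theorem scale_monomial (c : K) (s : σ →₀ ℕ) (a : K) :
    scale c (monomial s a) = C (c ^ s.degree) * monomial s a := by
  rw [scale, aeval_monomial]
  simp only [mul_pow]
  rw [Finsupp.prod_mul, monomial_eq, algebraMap_eq]
  have h : (s.prod fun _ k => (C c : MvPolynomial σ K) ^ k) = C (c ^ s.degree) := by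
    rw [Finsupp.prod, Finset.prod_pow_eq_pow_sum, C_pow]
    rfl
  rw [h]
  ring

theorem scale_of_isHomogeneous (c : K) {f : MvPolynomial σ K} {n : ℕ} (hf : f.IsHomogeneous n) :
    scale c f = C (c ^ n) * f := by
  conv_lhs => rw [f.as_sum]
  conv_rhs => rw [f.as_sum]
  rw [map_sum, Finset.mul_sum]
  refine Finset.sum_congr rfl fun s hs => ?_
  rw [scale_monomial]
  have h : s.degree = n := by
    have := hf (mem_support_iff.1 hs)
    rw [Finsupp.degree_eq_weight_one]
    exact this
  rw [h]

theorem scale_comp_scale (c c' : K) : (scale (σ := σ) c).comp (scale c') = scale (c * c') := by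
  apply algHom_ext
  intro i
  simp only [scale, AlgHom.comp_apply, aeval_X, map_mul, algHom_C, algebraMap_eq]
  ring

theorem scale_one : scale (σ := σ) (1 : K) = AlgHom.id K _ := by
  apply algHom_ext
  intro i
  simp [scale]

/-- Scaling by a nonzero scalar, as an automorphism. -/
noncomputable def scaleEquiv (c : K) (hc : c ≠ 0) : MvPolynomial σ K ≃+* MvPolynomial σ K :=
  RingEquiv.ofRingHom (scale c : MvPolynomial σ K →ₐ[K] MvPolynomial σ K).toRingHom
    (scale c⁻¹ : MvPolynomial σ K →ₐ[K] MvPolynomial σ K).toRingHom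
    (RingHom.ext fun f => by
      change scale c (scale c⁻¹ f) = f
      rw [← AlgHom.comp_apply, scale_comp_scale, mul_inv_cancel₀ hc, scale_one]
      rfl)
    (RingHom.ext fun f => by
      change scale c⁻¹ (scale c f) = f
      rw [← AlgHom.comp_apply, scale_comp_scale, inv_mul_cancel₀ hc, scale_one]
      rfl)

theorem scaleEquiv_apply (c : K) (hc : c ≠ 0) (f : MvPolynomial σ K) : scaleEquiv c hc f = scale c f := rfl

variable {I : Ideal (MvPolynomial σ K)}

theorem scale_mem (hI : ∃ T : Set (MvPolynomial σ K), (∀ f ∈ T, ∃ k : ℕ, f.IsHomogeneous k) ∧ I = Ideal.span T)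
    (c : K) {f : MvPolynomial σ K} (hf : f ∈ I) : scale c f ∈ I := by
  obtain ⟨T, hT, rfl⟩ := hI
  have h : Ideal.span T ≤ (Ideal.span T).comap (scale c) := by
    rw [Ideal.span_le]
    intro t ht
    obtain ⟨k, hk⟩ := hT t ht
    rw [SetLike.mem_coe, Ideal.mem_comap, scale_of_isHomogeneous c hk]
    exact Ideal.mul_mem_left _ _ (Ideal.subset_span ht)
  exact h hf

theorem map_scaleEquiv (hI : ∃ T : Set (MvPolynomial σ K), (∀ f ∈ T, ∃ k : ℕ, f.IsHomogeneous k) ∧ I = Ideal.span T)
    (c : K) (hc : c ≠ 0) :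
    I = Ideal.map (RingHomClass.toRingHom (scaleEquiv (σ := σ) c hc)) I := by
  apply le_antisymm
  · intro f hf
    have h1 : f = scaleEquiv c hc (scale c⁻¹ f) := by
      rw [scaleEquiv_apply, ← AlgHom.comp_apply, scale_comp_scale, mul_inv_cancel₀ hc, scale_one]
      rfl
    rw [h1]
    exact Ideal.mem_map_of_mem _ (scale_mem hI _ hf)
  · rw [Ideal.map_le_iff_le_comap]
    intro f hf
    exact scale_mem hI c hf

/-- The automorphism of the cone given by scaling. -/
noncomputable def coneEquiv (hI : ∃ T : Set (MvPolynomial σ K), (∀ f ∈ T, ∃ k : ℕ, f.IsHomogeneous k) ∧ I = Ideal.span T)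
    (c : K) (hc : c ≠ 0) : (MvPolynomial σ K ⧸ I) ≃+* (MvPolynomial σ K ⧸ I) :=
  Ideal.quotientEquiv I I (scaleEquiv c hc) (map_scaleEquiv hI c hc)

theorem coneEquiv_mk (hI : ∃ T : Set (MvPolynomial σ K), (∀ f ∈ T, ∃ k : ℕ, f.IsHomogeneous k) ∧ I = Ideal.span T)
    (c : K) (hc : c ≠ 0) (f : MvPolynomial σ K) : coneEquiv hI c hc (Ideal.Quotient.mk I f) =
      Ideal.Quotient.mk I (scale c f) :=
  Ideal.quotientEquiv_mk _ _ _ _ _

/-- A polynomial all of whose scalings lie in a proper ideal has no constant term. -/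
theorem constantCoeff_eq_zero [Infinite K] (J : Ideal (MvPolynomial σ K)) (hJ : J ≠ ⊤) (f : MvPolynomial σ K)
    (hf : ∀ c : K, c ≠ 0 → scale c f ∈ J) : constantCoeff f = 0 := by
  by_contra h0
  -- a linear form on `S / J` not vanishing at `1`
  have h1 : Ideal.Quotient.mk J 1 ≠ 0 := by
    rw [Ne, Ideal.Quotient.eq_zero_iff_mem, ← Ideal.eq_top_iff_one]
    exact hJ
  obtain ⟨ψ, hψ⟩ : ∃ ψ : Module.Dual K (MvPolynomial σ K ⧸ J), ψ (Ideal.Quotient.mk J 1) ≠ 0 := by
    by_contra hcon
    push Not at hcon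
    exact h1 ((Module.forall_dual_apply_eq_zero_iff K _).1 hcon)
  let ψ' : MvPolynomial σ K → K := fun g => ψ (Ideal.Quotient.mk J g)
  have hψ' : ∀ (a : K) (g : MvPolynomial σ K), ψ' (C a * g) = a * ψ' g := by
    intro a g
    have : Ideal.Quotient.mk J (C a * g) = a • Ideal.Quotient.mk J g := by
      rw [C_mul']
      exact map_smul (Ideal.Quotient.mkₐ K J) a g
    simp only [ψ']
    rw [this, map_smul, smul_eq_mul]
  let P : Polynomial K := ∑ n ∈ Finset.range (f.totalDegree + 1),
    Polynomial.C (ψ' (homogeneousComponent n f)) * Polynomial.X ^ n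
  have hP : ∀ c : K, P.eval c = ψ' (scale c f) := by
    intro c
    have h2 : scale c f = ∑ n ∈ Finset.range (f.totalDegree + 1), C (c ^ n) * homogeneousComponent n f := by
      conv_lhs => rw [← sum_homogeneousComponent f]
      rw [map_sum]
      exact Finset.sum_congr rfl fun n _ => scale_of_isHomogeneous c (homogeneousComponent_isHomogeneous n f)
    rw [h2]
    simp only [P, Polynomial.eval_finsetSum, Polynomial.eval_mul, Polynomial.eval_C, Polynomial.eval_pow,
      Polynomial.eval_X]
    have h3 : ψ' (∑ n ∈ Finset.range (f.totalDegree + 1), C (c ^ n) * homogeneousComponent n f) =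
        ∑ n ∈ Finset.range (f.totalDegree + 1), ψ' (C (c ^ n) * homogeneousComponent n f) := by
      simp only [ψ']
      rw [map_sum, map_sum]
    rw [h3]
    exact Finset.sum_congr rfl fun n _ => by rw [hψ', mul_comm]
  have hP0 : P = 0 := by
    refine Polynomial.eq_zero_of_infinite_isRoot P ?_
    have hinf : (({0} : Set K)ᶜ).Infinite := (Set.finite_singleton 0).infinite_compl
    refine hinf.mono fun c hc => ?_
    change P.eval c = 0
    rw [hP]
    simp only [ψ']
    rw [Ideal.Quotient.eq_zero_iff_mem.2 (hf c hc), map_zero]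
  have h4 := hP 0
  rw [hP0, Polynomial.eval_zero] at h4
  have h5 : scale 0 f = C (constantCoeff f) * 1 := by
    conv_lhs => rw [← sum_homogeneousComponent f]
    rw [map_sum, Finset.sum_eq_single 0]
    · rw [scale_of_isHomogeneous 0 (homogeneousComponent_isHomogeneous 0 f), homogeneousComponent_zero]
      simp [constantCoeff_eq]
    · intro n _ hn
      rw [scale_of_isHomogeneous 0 (homogeneousComponent_isHomogeneous n f), zero_pow hn, C_0, zero_mul]
    · intro h; simp at h
  rw [h5, hψ'] at h4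
  exact (mul_ne_zero h0 hψ) h4.symm

theorem cm_of_comap {B : Type u} [CommRing B] (e : B ≃+* B) (q : Ideal B) [q.IsPrime]
    (h : LocCoh.IsCohenMacaulayLocalRing (Localization.AtPrime (q.comap e))) :
    LocCoh.IsCohenMacaulayLocalRing (Localization.AtPrime q) :=
  Groth.Agent.CalgB.CMPoly.isCohenMacaulayLocalRing_of_ringEquiv <|
      IsLocalization.ringEquivOfRingEquiv (Localization.AtPrime (q.comap e))
        (Localization.AtPrime q) e (e.map_primeCompl_comap_eq q)

/-- The ideal of the non Cohen–Macaulay locus is stable under automorphisms. -/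
theorem map_mem_vanishingIdeal {B : Type u} [CommRing B] (e : B ≃+* B) {f : B}
    (hf : f ∈ PrimeSpectrum.vanishingIdeal {p : PrimeSpectrum B |
      LocCoh.IsCohenMacaulayLocalRing (Localization.AtPrime p.asIdeal)}ᶜ) :
    e f ∈ PrimeSpectrum.vanishingIdeal {p : PrimeSpectrum B |
      LocCoh.IsCohenMacaulayLocalRing (Localization.AtPrime p.asIdeal)}ᶜ := by
  rw [PrimeSpectrum.mem_vanishingIdeal] at hf ⊢
  intro q hq
  have hq' : PrimeSpectrum.comap (e : B →+* B) q ∈ {p : PrimeSpectrum B |
      LocCoh.IsCohenMacaulayLocalRing (Localization.AtPrime p.asIdeal)}ᶜ := by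
    intro hcm'
    exact hq (cm_of_comap e q.asIdeal hcm')
  exact hf _ hq'

/-- If every proper ideal stable under a set of automorphisms lies in `m`, and the ring is Cohen–Macaulay at `m`,
then it is Cohen–Macaulay. -/
theorem isCohenMacaulayRing_of_stable {B : Type u} [CommRing B] [Algebra K B] [Algebra.FiniteType K B]
    (E : Set (B ≃+* B)) (m : Ideal B) [hm : m.IsPrime]
    (hE : ∀ V : Ideal B, V ≠ ⊤ → (∀ e ∈ E, ∀ x ∈ V, e x ∈ V) → V ≤ m)
    (hcm : LocCoh.IsCohenMacaulayLocalRing (Localization.AtPrime m)) :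
    LocCoh.IsCohenMacaulayRing B := by
  have hnoeth : IsNoetherianRing B := Algebra.FiniteType.isNoetherianRing K B
  have hopen := CMOpen.isOpen_cm K B
  have hclosed := hopen.isClosed_compl
  by_contra hncm
  -- the non Cohen–Macaulay locus is nonempty
  obtain ⟨p, hp⟩ : ∃ p : PrimeSpectrum B, ¬ LocCoh.IsCohenMacaulayLocalRing (Localization.AtPrime p.asIdeal) := by
    by_contra hall
    push Not at hall
    exact hncm { isCohenMacaulayLocalRing_localization := fun p hp => hall ⟨p, hp⟩ }
  have hle := hE (PrimeSpectrum.vanishingIdeal {p : PrimeSpectrum B |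
      LocCoh.IsCohenMacaulayLocalRing (Localization.AtPrime p.asIdeal)}ᶜ) (by
      intro h
      have h1 : (1 : B) ∈ PrimeSpectrum.vanishingIdeal {p : PrimeSpectrum B |
        LocCoh.IsCohenMacaulayLocalRing (Localization.AtPrime p.asIdeal)}ᶜ := by rw [h]; trivial
      exact p.isPrime.ne_top ((Ideal.eq_top_iff_one _).2 ((PrimeSpectrum.mem_vanishingIdeal _ _).1 h1 p hp)))
      (fun e _ x hx => map_mem_vanishingIdeal e hx)
  have hmem : (⟨m, hm⟩ : PrimeSpectrum B) ∈ {p : PrimeSpectrum B |
      LocCoh.IsCohenMacaulayLocalRing (Localization.AtPrime p.asIdeal)}ᶜ := by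
    rw [← hclosed.closure_eq, ← PrimeSpectrum.zeroLocus_vanishingIdeal_eq_closure, PrimeSpectrum.mem_zeroLocus]
    exact hle
  exact hmem hcm

/-- Proper ideals of a cone stable under scaling lie in the ideal of the vertex. -/
theorem le_vertex [Infinite K]
    (hI : ∃ T : Set (MvPolynomial σ K), (∀ f ∈ T, ∃ k : ℕ, f.IsHomogeneous k) ∧ I = Ideal.span T)
    (V : Ideal (MvPolynomial σ K ⧸ I)) (hV : V ≠ ⊤)
    (h : ∀ (c : K) (hc : c ≠ 0), ∀ x ∈ V, coneEquiv hI c hc x ∈ V) :
    V ≤ (RingHom.ker (constantCoeff : MvPolynomial σ K →+* K)).map (Ideal.Quotient.mk I) := by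
  intro x hx
  obtain ⟨f, rfl⟩ := Ideal.Quotient.mk_surjective x
  refine Ideal.mem_map_of_mem _ ?_
  rw [RingHom.mem_ker]
  refine constantCoeff_eq_zero (V.comap (Ideal.Quotient.mk I)) (Ideal.comap_ne_top _ hV) f fun c hc => ?_
  rw [Ideal.mem_comap, ← coneEquiv_mk hI c hc]
  exact h c hc _ hx

/-- A cone which is Cohen–Macaulay at its vertex is Cohen–Macaulay. -/
theorem isCohenMacaulayRing_of_vertex [Infinite K] [Finite σ]
    (hI : ∃ T : Set (MvPolynomial σ K), (∀ f ∈ T, ∃ k : ℕ, f.IsHomogeneous k) ∧ I = Ideal.span T)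
    [hm : ((RingHom.ker (constantCoeff : MvPolynomial σ K →+* K)).map (Ideal.Quotient.mk I)).IsPrime]
    (hcm : LocCoh.IsCohenMacaulayLocalRing (Localization.AtPrime
        ((RingHom.ker (constantCoeff : MvPolynomial σ K →+* K)).map (Ideal.Quotient.mk I)))) :
    LocCoh.IsCohenMacaulayRing (MvPolynomial σ K ⧸ I) :=
  isCohenMacaulayRing_of_stable (K := K) {e | ∃ (c : K) (hc : c ≠ 0), e = coneEquiv hI c hc} _
    (fun V hV h => le_vertex hI V hV fun c hc x hx => h _ ⟨c, hc, rfl⟩ x hx) hcm

end K678.Cone
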