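import Groth.Agent.W4bk4grassmannian.K678.ChainSpan
import Mathlib.Algebra.MvPolynomial.Basic
import Mathlib.Algebra.MvPolynomial.CommRing
import Mathlib.Algebra.Polynomial.Roots
import Mathlib.Algebra.Polynomial.AlgebraMap
import Mathlib.LinearAlgebra.Basis.Basic
import Mathlib.LinearAlgebra.FreeModule.Basic
import Mathlib.RingTheory.Ideal.Quotient.Operations
import Mathlib.RingTheory.MvPolynomial.Tower

/-!
Flat families given by weighted straightening relations: a free `K[t]`-algebra with prescribed fibres.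
-/

set_option autoImplicit false

universe u v

open Polynomial K678.ChainSpan

namespace K678.Family

section fibre

variable {K : Type u} [Field K] {R : Type v} [CommRing R] [Algebra K R] [Algebra K[X] R] {ι : Type*}

/-- a family all of whose specialisations are linearly independent is linearly independent over `K[t]` -/
theorem linearIndependent_of_specializations [Infinite K] (b : ι → R)
    (H : ∀ c : K, ∃ (B : Type u) (_ : CommRing B) (_ : Algebra K B) (π : R →ₐ[K] B),
      (∀ (f : K[X]) (r : R), π (f • r) = f.eval c • π r) ∧ LinearIndependent K (fun i => π (b i))) :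
    LinearIndependent K[X] b := by
  rw [linearIndependent_iff']
  intro s g hg i hi
  apply Polynomial.funext
  intro c
  obtain ⟨B, _, _, π, hπ, hLI⟩ := H c
  rw [linearIndependent_iff'] at hLI
  have h := hLI s (fun i => (g i).eval c) (by
    rw [← map_zero π, ← hg, map_sum]
    exact Finset.sum_congr rfl fun i _ => (hπ _ _).symm) i hi
  rw [h, eval_zero]

/-- the kernel of a specialisation -/
theorem ker_specialization (b : ι → R) (hspan : Submodule.span K[X] (Set.range b) = ⊤) (c : K)
    {B : Type*} [CommRing B] [Algebra K B] (π : R →ₐ[K] B)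
    (hπ : ∀ (f : K[X]) (r : R), π (f • r) = f.eval c • π r) (hLI : LinearIndependent K (fun i => π (b i))) :
    RingHom.ker π = Ideal.span {algebraMap K[X] R (X - C c)} := by
  apply le_antisymm
  · intro r hr
    have h1 : r ∈ Submodule.span K[X] (Set.range b) := by rw [hspan]; trivial
    rw [Finsupp.mem_span_range_iff_exists_finsupp] at h1
    obtain ⟨l, rfl⟩ := h1
    rw [RingHom.mem_ker, Finsupp.sum, map_sum] at hr
    rw [linearIndependent_iff'] at hLI
    have h0 := hLI l.support (fun i => (l i).eval c) (by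
      rw [← hr]
      exact Finset.sum_congr rfl fun i _ => (hπ _ _).symm)
    rw [Finsupp.sum]
    apply Ideal.sum_mem
    intro i hi
    obtain ⟨q, hq⟩ := Polynomial.dvd_iff_isRoot.2 (h0 i hi)
    rw [hq, Algebra.smul_def, map_mul, mul_assoc]
    exact Ideal.mul_mem_right _ _ (Ideal.subset_span rfl)
  · rw [Ideal.span_le]
    rintro _ rfl
    show π (algebraMap _ _ (X - C c)) = 0
    rw [Algebra.algebraMap_eq_smul_one, hπ, eval_sub, eval_X, eval_C, sub_self, zero_smul]

/-- the fibre of the family at `t = c` -/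
theorem fibre_equiv (b : ι → R) (hspan : Submodule.span K[X] (Set.range b) = ⊤) (c : K)
    {B : Type*} [CommRing B] [Algebra K B] (π : R →ₐ[K] B) (hsurj : Function.Surjective π)
    (hπ : ∀ (f : K[X]) (r : R), π (f • r) = f.eval c • π r) (hLI : LinearIndependent K (fun i => π (b i))) :
    Nonempty ((R ⧸ Ideal.span {algebraMap K[X] R (X - C c)}) ≃ₐ[K] B) := by
  have h := ker_specialization b hspan c π hπ hLI
  exact ⟨(Ideal.quotientEquivAlgOfEq K h.symm).trans (Ideal.quotientKerAlgEquivOfSurjective hsurj)⟩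

end fibre

section family

variable (K : Type u) [Field K] {P : Type} [PartialOrder P] [Fintype P] (W : P → ℕ) (A : P → P → P × P → K)

/-- the deformed straightening relation of a pair -/
noncomputable def rel (a b : P) : MvPolynomial P K[X] :=
  MvPolynomial.X a * MvPolynomial.X b -
    ∑ p : P × P, (C (A a b p) * X ^ (W a + W b - (W p.1 + W p.2)) : K[X]) • (MvPolynomial.X p.1 * MvPolynomial.X p.2)

/-- the ideal of the deformed straightening relations -/
noncomputable def relIdeal : Ideal (MvPolynomial P K[X]) :=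
  Ideal.span {f | ∃ a b : P, ¬ a ≤ b ∧ ¬ b ≤ a ∧ f = rel K W A a b}

/-- the family -/
def Fam : Type u := MvPolynomial P K[X] ⧸ relIdeal K W A

noncomputable instance : CommRing (Fam K W A) := inferInstanceAs (CommRing (MvPolynomial P K[X] ⧸ relIdeal K W A))

noncomputable instance : Algebra K[X] (Fam K W A) :=
  inferInstanceAs (Algebra K[X] (MvPolynomial P K[X] ⧸ relIdeal K W A))

noncomputable instance : Algebra K (Fam K W A) :=
  inferInstanceAs (Algebra K (MvPolynomial P K[X] ⧸ relIdeal K W A))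

instance : IsScalarTower K K[X] (Fam K W A) :=
  inferInstanceAs (IsScalarTower K K[X] (MvPolynomial P K[X] ⧸ relIdeal K W A))

/-- the quotient map -/
noncomputable def mkF : MvPolynomial P K[X] →ₐ[K[X]] Fam K W A := Ideal.Quotient.mkₐ K[X] (relIdeal K W A)

lemma mkF_surjective : Function.Surjective (mkF K W A) := Ideal.Quotient.mkₐ_surjective _ _

lemma mkF_eq_zero {f : MvPolynomial P K[X]} (hf : f ∈ relIdeal K W A) : mkF K W A f = 0 :=
  Ideal.Quotient.eq_zero_iff_mem.2 hf

/-- the generators of the family -/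
noncomputable def gen (a : P) : Fam K W A := mkF K W A (MvPolynomial.X a)

lemma gen_mul_gen (a b : P) (hab : ¬ a ≤ b) (hba : ¬ b ≤ a) : gen K W A a * gen K W A b =
    ∑ p : P × P, (C (A a b p) * X ^ (W a + W b - (W p.1 + W p.2)) : K[X]) • (gen K W A p.1 * gen K W A p.2) := by
  have h : mkF K W A (rel K W A a b) = 0 := mkF_eq_zero K W A (Ideal.subset_span ⟨a, b, hab, hba, rfl⟩)
  unfold rel at h
  rw [map_sub, sub_eq_zero, map_mul, map_sum] at h
  unfold gen
  rw [h]
  apply Finset.sum_congr rfl
  intro p _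
  rw [map_smul, map_mul]

lemma adjoin_gen : Algebra.adjoin K[X] (Set.range (gen K W A)) = ⊤ := by
  have h1 : Set.range (gen K W A) = (mkF K W A) '' (Set.range MvPolynomial.X) := by
    rw [← Set.range_comp]
    rfl
  rw [h1, ← AlgHom.map_adjoin, MvPolynomial.adjoin_range_X, Algebra.map_top]
  exact (AlgHom.range_eq_top _).2 (mkF_surjective K W A)

variable {K W A}

theorem span_gen (hA : ∀ a b p, ¬ a ≤ b → ¬ b ≤ a → A a b p ≠ 0 → a < p.1 ∧ b < p.1) :
    Submodule.span K[X] (Set.range (sm (gen K W A))) = ⊤ := by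
  apply span_eq_top _ _ (adjoin_gen K W A)
  intro a b hab hba
  rw [gen_mul_gen K W A a b hab hba]
  apply Submodule.sum_mem
  intro p _
  by_cases hp : A a b p = 0
  · rw [hp, C_0, zero_mul, zero_smul]; exact Submodule.zero_mem _
  · apply Submodule.smul_mem
    exact Submodule.subset_span ⟨p.1, p.2, (hA a b p hab hba hp).1, (hA a b p hab hba hp).2, rfl⟩

section spec

variable {B : Type*} [CommRing B] [Algebra K B] (c : K) (y : P → B)
  (hrel : ∀ a b, ¬ a ≤ b → ¬ b ≤ a → y a * y b =
    ∑ p : P × P, (A a b p * c ^ (W a + W b - (W p.1 + W p.2))) • (y p.1 * y p.2))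

/-- evaluation at `t = c` on the polynomial ring -/
noncomputable def ev : MvPolynomial P K[X] →ₐ[K] B :=
  MvPolynomial.aevalTower ((Algebra.ofId K B).comp (Polynomial.aeval c)) y

omit [PartialOrder P] [Fintype P] in
lemma ev_X (a : P) : ev c y (MvPolynomial.X a) = y a := MvPolynomial.aevalTower_X _ _ _

omit [PartialOrder P] [Fintype P] in
lemma ev_C (f : K[X]) : ev c y (MvPolynomial.C f) = algebraMap K B (f.eval c) := by
  unfold ev
  rw [MvPolynomial.aevalTower_C, AlgHom.comp_apply, Polynomial.coe_aeval_eq_eval]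
  rfl

omit [PartialOrder P] [Fintype P] in
lemma ev_smul (f : K[X]) (g : MvPolynomial P K[X]) : ev c y (f • g) = f.eval c • ev c y g := by
  rw [MvPolynomial.smul_eq_C_mul, map_mul, ev_C, Algebra.smul_def]

include hrel in
lemma relIdeal_le : relIdeal K W A ≤ RingHom.ker (ev c y) := by
  unfold relIdeal
  rw [Ideal.span_le]
  rintro _ ⟨a, b, hab, hba, rfl⟩
  show ev c y (rel K W A a b) = 0
  unfold rel
  rw [map_sub, map_mul, ev_X, ev_X, map_sum, hrel a b hab hba, sub_eq_zero]
  apply Finset.sum_congr rfl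
  intro p _
  rw [ev_smul, map_mul, ev_X, ev_X, eval_mul, eval_C, eval_pow, eval_X]

/-- evaluation at `t = c` on the family -/
noncomputable def spec : Fam K W A →ₐ[K] B :=
  Ideal.Quotient.liftₐ (relIdeal K W A) (ev c y) (fun _ h => relIdeal_le c y hrel h)

lemma spec_mk (g : MvPolynomial P K[X]) : spec c y hrel (mkF K W A g) = ev c y g := rfl

lemma spec_gen (a : P) : spec c y hrel (gen K W A a) = y a := by
  unfold gen
  rw [spec_mk, ev_X]

lemma spec_smul (f : K[X]) (r : Fam K W A) : spec c y hrel (f • r) = f.eval c • spec c y hrel r := by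
  obtain ⟨g, rfl⟩ := mkF_surjective K W A r
  rw [← map_smul, spec_mk, spec_mk, ev_smul]

lemma spec_surjective (hy : Algebra.adjoin K (Set.range y) = ⊤) : Function.Surjective (spec c y hrel) := by
  rw [← AlgHom.range_eq_top, eq_top_iff, ← hy, Algebra.adjoin_le_iff]
  rintro _ ⟨a, rfl⟩
  exact ⟨gen K W A a, spec_gen c y hrel a⟩

lemma spec_sm (s : Ch P) : spec c y hrel (sm (gen K W A) s) = sm y s := by
  rw [map_sm]
  simp only [spec_gen]

end spec

section assemble

variable (hA : ∀ a b p, ¬ a ≤ b → ¬ b ≤ a → A a b p ≠ 0 → a < p.1 ∧ b < p.1)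

include hA in
/-- the fibre at `t = c` -/
theorem fibre (c : K) {B : Type u} [CommRing B] [Algebra K B] (y : P → B)
    (hy : Algebra.adjoin K (Set.range y) = ⊤)
    (hrel : ∀ a b, ¬ a ≤ b → ¬ b ≤ a → y a * y b =
      ∑ p : P × P, (A a b p * c ^ (W a + W b - (W p.1 + W p.2))) • (y p.1 * y p.2))
    (hLI : LinearIndependent K (sm y)) :
    Nonempty ((Fam K W A ⧸ Ideal.span {algebraMap K[X] (Fam K W A) (X - C c)}) ≃ₐ[K] B) := by
  have hLI' : LinearIndependent K (fun s => spec c y hrel (sm (gen K W A) s)) := by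
    simp only [spec_sm]
    exact hLI
  exact fibre_equiv (sm (gen K W A)) (span_gen hA) c (spec c y hrel) (spec_surjective c y hrel hy)
    (spec_smul c y hrel) hLI'

include hA in
/-- freeness -/
theorem free [Infinite K] (H : ∀ c : K, ∃ (B : Type u) (_ : CommRing B) (_ : Algebra K B) (y : P → B),
      (∀ a b, ¬ a ≤ b → ¬ b ≤ a → y a * y b =
        ∑ p : P × P, (A a b p * c ^ (W a + W b - (W p.1 + W p.2))) • (y p.1 * y p.2)) ∧
      LinearIndependent K (sm y)) : Module.Free K[X] (Fam K W A) := by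
  have hLI : LinearIndependent K[X] (sm (gen K W A)) := by
    apply linearIndependent_of_specializations (K := K)
    intro c
    obtain ⟨B, _, _, y, hrel, hLI⟩ := H c
    refine ⟨B, inferInstance, inferInstance, spec c y hrel, spec_smul c y hrel, ?_⟩
    simp only [spec_sm]
    exact hLI
  exact Module.Free.of_basis (Module.Basis.mk hLI (span_gen hA).ge)

variable (hW : ∀ a b p, ¬ a ≤ b → ¬ b ≤ a → A a b p ≠ 0 → W p.1 + W p.2 ≤ W a + W b)
    {B : Type u} [CommRing B] [Algebra K B] (x : P → B) (hx : Algebra.adjoin K (Set.range x) = ⊤)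
    (hxrel : ∀ a b, ¬ a ≤ b → ¬ b ≤ a → x a * x b = ∑ p : P × P, A a b p • (x p.1 * x p.2))
    (hxLI : LinearIndependent K (sm x)) (c : K) (hc : c ≠ 0)

include hW hxrel in
omit hc in
lemma scaled_rel (a b : P) (hab : ¬ a ≤ b) (hba : ¬ b ≤ a) : (c ^ W a • x a) * (c ^ W b • x b) =
      ∑ p : P × P, (A a b p * c ^ (W a + W b - (W p.1 + W p.2))) • ((c ^ W p.1 • x p.1) * (c ^ W p.2 • x p.2)) := by
  rw [smul_mul_smul_comm, hxrel a b hab hba, Finset.smul_sum]
  apply Finset.sum_congr rfl
  intro p _
  by_cases hp : A a b p = 0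
  · rw [hp, zero_smul, smul_zero, zero_mul, zero_smul]
  · rw [smul_mul_smul_comm, smul_smul, smul_smul]
    congr 1
    have h := hW a b p hab hba hp
    rw [← pow_add, ← pow_add, mul_assoc, ← pow_add, mul_comm]
    congr 2
    omega

omit [Fintype P] [PartialOrder P] in
include hx hc in
lemma scaled_gen (W : P → ℕ) : Algebra.adjoin K (Set.range fun a => c ^ W a • x a) = ⊤ := by
  rw [eq_top_iff, ← hx, Algebra.adjoin_le_iff]
  rintro _ ⟨a, rfl⟩
  have h1 : x a = (c ^ W a)⁻¹ • (c ^ W a • x a) := by
    rw [smul_smul, inv_mul_cancel₀ (pow_ne_zero _ hc), one_smul]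
  rw [SetLike.mem_coe, h1]
  exact Subalgebra.smul_mem _ (Algebra.subset_adjoin (Set.mem_range_self a)) _

omit [Fintype P] in
include hxLI hc in
lemma scaled_LI (W : P → ℕ) : LinearIndependent K (sm fun a => c ^ W a • x a) := by
  have h1 : (sm fun a => c ^ W a • x a) =
      (fun s : Ch P => Units.mk0 (c ^ ∑ k, W (s.2.1 k)) (pow_ne_zero _ hc)) • sm x := by
    funext s
    show _ = (Units.mk0 (c ^ ∑ k, W (s.2.1 k)) (pow_ne_zero _ hc)) • sm x s
    unfold sm
    rw [Units.smul_def, Units.val_mk0, Finset.prod_smul, Finset.prod_pow_eq_pow_sum]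
  rw [h1]
  exact hxLI.units_smul _

include hA hW hx hxrel hxLI in
omit hc in
/-- **the family theorem** -/
theorem main [Infinite K]
    {B0 : Type u} [CommRing B0] [Algebra K B0] (y : P → B0) (hy : Algebra.adjoin K (Set.range y) = ⊤)
    (hyrel : ∀ a b, ¬ a ≤ b → ¬ b ≤ a → y a * y b =
      ∑ p : P × P, (A a b p * (0 : K) ^ (W a + W b - (W p.1 + W p.2))) • (y p.1 * y p.2))
    (hyLI : LinearIndependent K (sm y)) :
    ∃ (R : Type u) (_ : CommRing R) (_ : Algebra K R) (_ : Algebra K[X] R) (_ : IsScalarTower K K[X] R),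
      Module.Free K[X] R ∧
      Nonempty ((R ⧸ Ideal.span {algebraMap K[X] R X}) ≃ₐ[K] B0) ∧
      ∀ c : K, c ≠ 0 → Nonempty ((R ⧸ Ideal.span {algebraMap K[X] R (X - C c)}) ≃ₐ[K] B) := by
  have h1 : Module.Free K[X] (Fam K W A) := by
    apply free hA
    intro c
    by_cases hc : c = 0
    · subst hc
      exact ⟨B0, inferInstance, inferInstance, y, hyrel, hyLI⟩
    · exact ⟨B, inferInstance, inferInstance, _, scaled_rel hW x hxrel c, scaled_LI x hxLI c hc W⟩
  have h2 : Nonempty ((Fam K W A ⧸ Ideal.span {algebraMap K[X] (Fam K W A) X}) ≃ₐ[K] B0) := by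
    have h := fibre hA 0 y hy hyrel hyLI
    rwa [C_0, sub_zero] at h
  have h3 : ∀ c : K, c ≠ 0 →
      Nonempty ((Fam K W A ⧸ Ideal.span {algebraMap K[X] (Fam K W A) (X - C c)}) ≃ₐ[K] B) :=
    fun c hc => fibre hA c _ (scaled_gen x hx c hc W) (scaled_rel hW x hxrel c) (scaled_LI x hxLI c hc W)
  exact ⟨Fam K W A, inferInstance, inferInstance, inferInstance, inferInstance, h1, h2, h3⟩

end assemble

end family

end K678.Family
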