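import Groth.Agent.W4bk4grassmannian.K678.ChainSpan
import Groth.Agent.W4bk4grassmannian.K677.Fine
import Mathlib.RingTheory.MvPolynomial.Ideal

/-!
Standard monomials are linearly independent in the Hibi ring and in the Stanley-Reisner ring of `H(w)`.
-/

set_option autoImplicit false

open MvPolynomial W4bk4grassmannian K678.ChainSpan

universe u

namespace K678.FibreLI

variable {d n : ℕ} (K : Type u) [Field K] (w : Idx d n)

/-- the exponent of a chain -/
noncomputable def ex (c : Ch (Below w)) : Fin n × Fin d →₀ ℕ := ∑ k, K677.LIGr.colExp (c.2.1 k).1.1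

lemma ex_injective (hd : 0 < d) : Function.Injective (ex w) := by
  intro c c' h
  let e : Ch (Below w) → (Σ m : ℕ, {c : Fin m → Idx d n // Antitone c}) :=
    fun c => ⟨c.1, fun k => (c.2.1 k).1, fun i j hij => c.2.2 hij⟩
  have h1 : e c = e c' := by
    apply K677.LIGr.exp_injective hd
    exact h
  obtain ⟨m, c, hc⟩ := c
  obtain ⟨m', c', hc'⟩ := c'
  simp only [e, Sigma.mk.injEq] at h1
  obtain ⟨rfl, h1⟩ := h1
  rw [heq_eq_eq, Subtype.mk.injEq] at h1
  congr 1
  apply Subtype.ext
  funext k
  exact Subtype.ext (congrFun h1 k)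

lemma adjoin_mk {σ : Type*} (I : Ideal (MvPolynomial σ K)) :
    Algebra.adjoin K (Set.range fun θ : σ => Ideal.Quotient.mk I (X θ)) = ⊤ := by
  have h1 : Set.range (fun θ : σ => Ideal.Quotient.mk I (X θ)) = (Ideal.Quotient.mkₐ K I) '' (Set.range X) := by
    rw [← Set.range_comp]
    rfl
  rw [h1, ← AlgHom.map_adjoin, MvPolynomial.adjoin_range_X, Algebra.map_top]
  exact (AlgHom.range_eq_top _).2 (Ideal.Quotient.mkₐ_surjective _ _)

section hibi

/-- the toric parametrisation of the Hibi ring -/
noncomputable def tor : MvPolynomial (Below w) K →ₐ[K] MatRing K d n :=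
  MvPolynomial.aeval fun θ : Below w => monomial (K677.LIGr.colExp θ.1.1) 1

lemma tor_hibi : hibiIdeal K w ≤ RingHom.ker (tor K w) := by
  unfold hibiIdeal
  rw [Ideal.span_le]
  rintro _ ⟨a, b, rfl⟩
  show tor K w (X a * X b - X (Below.sup a b) * X (Below.inf a b)) = 0
  unfold tor
  rw [map_sub, map_mul, map_mul, aeval_X, aeval_X, aeval_X, aeval_X, monomial_mul, monomial_mul, sub_eq_zero]
  have h : K677.LIGr.colExp a.1.1 + K677.LIGr.colExp b.1.1 =
      K677.LIGr.colExp (Below.sup a b).1.1 + K677.LIGr.colExp (Below.inf a b).1.1 :=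
    (K677.Fine.colExp_sup_inf a.1 b.1).symm
  rw [h]

/-- the toric parametrisation on the quotient -/
noncomputable def torQ : (MvPolynomial (Below w) K ⧸ hibiIdeal K w) →ₐ[K] MatRing K d n :=
  Ideal.Quotient.liftₐ _ (tor K w) fun _ h => tor_hibi K w h

theorem linearIndependent_hibi (hd : 0 < d) :
    LinearIndependent K (sm fun θ : Below w => Ideal.Quotient.mk (hibiIdeal K w) (X θ)) := by
  apply LinearIndependent.of_comp (torQ K w).toLinearMap
  have h1 : (torQ K w).toLinearMap ∘ (sm fun θ : Below w => Ideal.Quotient.mk (hibiIdeal K w) (X θ)) =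
      fun c => monomial (ex w c) (1 : K) := by
    funext c
    show torQ K w (sm _ c) = _
    rw [map_sm]
    have h2 : (fun θ : Below w => torQ K w (Ideal.Quotient.mk (hibiIdeal K w) (X θ))) =
        fun θ : Below w => monomial (K677.LIGr.colExp θ.1.1) 1 := by
      funext θ
      show tor K w (X θ) = _
      unfold tor
      rw [aeval_X]
    rw [h2]
    unfold sm ex
    rw [monomial_sum_one]
  rw [h1]
  exact (MvPolynomial.basisMonomials (Fin n × Fin d) K).linearIndependent.comp (ex w) (ex_injective w hd)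

end hibi

section sr

/-- the exponent of a chain in the variables of `H(w)` -/
noncomputable def exX (c : Ch (Below w)) : Below w →₀ ℕ := ∑ k, Finsupp.single (c.2.1 k) 1

lemma exX_injective (hd : 0 < d) : Function.Injective (exX w) := by
  intro c c' h
  apply ex_injective w hd
  have h1 := congrArg (Finsupp.weight fun θ : Below w => K677.LIGr.colExp θ.1.1) h
  unfold exX at h1
  rw [map_sum, map_sum] at h1
  simp only [Finsupp.weight_single, one_smul] at h1
  exact h1

lemma sr_eq : srIdeal K w = Ideal.span ((fun s => monomial s (1 : K)) ''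
    {e : Below w →₀ ℕ | ∃ a b : Below w, ¬ a ≤ b ∧ ¬ b ≤ a ∧ e = Finsupp.single a 1 + Finsupp.single b 1}) := by
  unfold srIdeal
  congr 1
  ext f
  constructor
  · rintro ⟨a, b, hab, hba, rfl⟩
    refine ⟨_, ⟨a, b, hab, hba, rfl⟩, ?_⟩
    simp only
    rw [X, X, monomial_mul, one_mul]
  · rintro ⟨_, ⟨a, b, hab, hba, rfl⟩, rfl⟩
    refine ⟨a, b, hab, hba, ?_⟩
    simp only
    rw [X, X, monomial_mul, one_mul]

lemma mem_of_exX_ne_zero (c : Ch (Below w)) (a : Below w) (h : exX w c a ≠ 0) : ∃ k, c.2.1 k = a := by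
  classical
  unfold exX at h
  rw [Finsupp.finsetSum_apply] at h
  obtain ⟨k, _, hk⟩ := Finset.exists_ne_zero_of_sum_ne_zero h
  rw [Finsupp.single_apply] at hk
  refine ⟨k, ?_⟩
  by_contra h1
  exact hk (if_neg h1)

lemma coeff_exX_sr (c : Ch (Below w)) (f : MvPolynomial (Below w) K) (hf : f ∈ srIdeal K w) :
    coeff (exX w c) f = 0 := by
  rw [sr_eq, mem_ideal_span_monomial_image] at hf
  by_contra h
  obtain ⟨e, ⟨a, b, hab, hba, rfl⟩, he⟩ := hf (exX w c) (mem_support_iff.2 h)
  have h1 : ∃ k, c.2.1 k = a := by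
    apply mem_of_exX_ne_zero
    have h2 := he a
    rw [Finsupp.add_apply, Finsupp.single_eq_same] at h2
    omega
  have h2 : ∃ k, c.2.1 k = b := by
    apply mem_of_exX_ne_zero
    have h2 := he b
    rw [Finsupp.add_apply, Finsupp.single_eq_same] at h2
    omega
  obtain ⟨i, rfl⟩ := h1
  obtain ⟨j, rfl⟩ := h2
  rcases le_total i j with hij | hij
  · exact hba (c.2.2 hij)
  · exact hab (c.2.2 hij)

theorem linearIndependent_sr (hd : 0 < d) :
    LinearIndependent K (sm fun θ : Below w => Ideal.Quotient.mk (srIdeal K w) (X θ)) := by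
  rw [linearIndependent_iff']
  intro s g hg i hi
  have h1 : (sm fun θ : Below w => Ideal.Quotient.mk (srIdeal K w) (X θ)) =
      fun c => Ideal.Quotient.mk (srIdeal K w) (monomial (exX w c) 1) := by
    funext c
    rw [← map_sm]
    unfold sm exX
    rw [monomial_sum_one]
    rfl
  rw [h1] at hg
  have h2 : Ideal.Quotient.mk (srIdeal K w) (∑ i ∈ s, monomial (exX w i) (g i)) = 0 := by
    rw [← hg, map_sum]
    apply Finset.sum_congr rfl
    intro j _
    have h3 : g j • (Ideal.Quotient.mk (srIdeal K w)) ((monomial (exX w j)) 1) =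
      Ideal.Quotient.mk (srIdeal K w) (g j • (monomial (exX w j)) 1) := rfl
    rw [h3, smul_monomial, smul_eq_mul, mul_one]
  have h3 := coeff_exX_sr K w i _ (Ideal.Quotient.eq_zero_iff_mem.1 h2)
  rw [coeff_sum, Finset.sum_eq_single i] at h3
  · rw [coeff_monomial, if_pos rfl] at h3
    exact h3
  · intro j _ hne
    rw [coeff_monomial, if_neg]
    intro h
    exact hne (exX_injective w hd h)
  · intro h
    exact absurd hi h

end sr

end K678.FibreLI
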