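import Groth.Agent.W4bk4grassmannian.K677.LIGr
import Mathlib.Algebra.Order.Rearrangement
import Mathlib.Data.Finsupp.Weight

/-!
Leading monomials with respect to an integral weight; the diagonal term of a minor is its leading term for the weight
`i * j`; relations between elements with distinct leading terms.
-/

set_option autoImplicit false

open MvPolynomial W4bk4grassmannian

universe u

namespace K678.Lead

section lead

variable {K : Type*} [CommRing K] {σ : Type*} (ω : (σ →₀ ℕ) →+ ℕ)

/-- `f` has leading monomial `e` (with coefficient one): all the other monomials have a smaller weight -/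
def IsLead (f : MvPolynomial σ K) (e : σ →₀ ℕ) : Prop :=
  coeff e f = 1 ∧ ∀ m, coeff m f ≠ 0 → m ≠ e → ω m < ω e

variable {ω}

lemma IsLead.le {f : MvPolynomial σ K} {e m : σ →₀ ℕ} (h : IsLead ω f e) (hm : coeff m f ≠ 0) : ω m ≤ ω e := by
  by_cases hme : m = e
  · rw [hme]
  · exact (h.2 m hm hme).le

lemma IsLead.coeff_eq_zero {f : MvPolynomial σ K} {e m : σ →₀ ℕ} (h : IsLead ω f e) (hne : m ≠ e)
    (hm : ω e ≤ ω m) : coeff m f = 0 := by
  by_contra h0
  exact absurd (h.2 m h0 hne) (not_lt.2 hm)

lemma IsLead.mul {f g : MvPolynomial σ K} {e e' : σ →₀ ℕ} (hf : IsLead ω f e) (hg : IsLead ω g e') :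
    IsLead ω (f * g) (e + e') := by
  classical
  constructor
  · rw [coeff_mul, Finset.sum_eq_single (e, e')]
    · rw [hf.1, hg.1, mul_one]
    · rintro ⟨a, b⟩ hab hne
      rw [Finset.mem_antidiagonal] at hab
      by_contra h0
      have ha : coeff a f ≠ 0 := fun h => h0 (by rw [h, zero_mul])
      have hb : coeff b g ≠ 0 := fun h => h0 (by rw [h, mul_zero])
      have hw : ω a + ω b = ω e + ω e' := by rw [← map_add, ← map_add, hab]
      have h1 := hf.le ha
      have h2 := hg.le hb
      by_cases hae : a = e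
      · apply hne
        have hab' : a + b = e + e' := hab
        rw [hae] at hab' ⊢
        rw [add_left_cancel hab']
      · have h3 := hf.2 a ha hae
        omega
    · intro h
      rw [Finset.mem_antidiagonal] at h
      exact absurd trivial (fun _ => h rfl)
  · intro m hm hne
    rw [coeff_mul] at hm
    obtain ⟨⟨a, b⟩, hab, h0⟩ := Finset.exists_ne_zero_of_sum_ne_zero hm
    rw [Finset.mem_antidiagonal] at hab
    have ha : coeff a f ≠ 0 := fun h => h0 (by rw [h, zero_mul])
    have hb : coeff b g ≠ 0 := fun h => h0 (by rw [h, mul_zero])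
    have h1 := hf.le ha
    have h2 := hg.le hb
    rw [← hab, map_add, map_add]
    show ω a + ω b < ω e + ω e'
    by_cases hae : a = e
    · have hbe : b ≠ e' := by
        rintro rfl
        exact hne (by rw [← hab, hae])
      have h3 := hg.2 b hb hbe
      omega
    · have h3 := hf.2 a ha hae
      omega

/-- in a relation `∑ A i • f i = F` between elements with distinct leading monomials and `F` all of whose monomials
have weight `< N`, all the terms which occur have weight `< N` -/
theorem weight_lt {ι : Type*} (s : Finset ι) (A : ι → K) (f : ι → MvPolynomial σ K) (e : ι → (σ →₀ ℕ))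
    (hf : ∀ i ∈ s, IsLead ω (f i) (e i)) (he : Set.InjOn e s) (F : MvPolynomial σ K) (N : ℕ)
    (hF : ∀ m, coeff m F ≠ 0 → ω m < N) (h : ∑ i ∈ s, A i • f i = F) (i : ι) (hi : i ∈ s) (hAi : A i ≠ 0) :
    ω (e i) < N := by
  classical
  obtain ⟨i0, hi0, hmax⟩ := Finset.exists_max_image (s.filter fun i => A i ≠ 0)
    (fun i => ω (e i)) ⟨i, Finset.mem_filter.2 ⟨hi, hAi⟩⟩
  rw [Finset.mem_filter] at hi0
  have h1 := hmax i (Finset.mem_filter.2 ⟨hi, hAi⟩)
  refine lt_of_le_of_lt h1 (hF _ ?_)
  rw [← h, coeff_sum, Finset.sum_eq_single i0]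
  · rw [coeff_smul, (hf i0 hi0.1).1, smul_eq_mul, mul_one]
    exact hi0.2
  · intro j hj hne
    rw [coeff_smul]
    by_cases hAj : A j = 0
    · rw [hAj, zero_smul]
    · rw [(hf j hj).coeff_eq_zero (fun h => hne (he hj hi0.1 h.symm)) (hmax j (Finset.mem_filter.2 ⟨hj, hAj⟩)),
        smul_zero]
  · intro h
    exact absurd hi0.1 h

lemma sub_lt {f g : MvPolynomial σ K} {e : σ →₀ ℕ} (hf : IsLead ω f e) (hg : IsLead ω g e) (m : σ →₀ ℕ)
    (hm : coeff m (f - g) ≠ 0) : ω m < ω e := by
  rw [coeff_sub] at hm
  by_cases hme : m = e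
  · subst hme
    rw [hf.1, hg.1, sub_self] at hm
    exact absurd rfl hm
  · by_cases h1 : coeff m f = 0
    · have h2 : coeff m g ≠ 0 := by
        intro h2
        rw [h1, h2, sub_self] at hm
        exact hm rfl
      exact hg.2 m h2 hme
    · exact hf.2 m h1 hme

end lead

section minors

variable {d n : ℕ}

/-- the weight `i * j` of the position `(i, j)` -/
noncomputable def om (d n : ℕ) : (Fin n × Fin d →₀ ℕ) →+ ℕ :=
  Finsupp.weight fun p : Fin n × Fin d => p.1.val * p.2.val

lemma om_colExp (a : Fin d → Fin n) : om d n (K677.LIGr.colExp a) = ∑ t, (a t).val * t.val := by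
  unfold om K677.LIGr.colExp
  rw [map_sum]
  apply Finset.sum_congr rfl
  intro t _
  rw [Finsupp.weight_single, one_smul]

lemma om_perm_lt (a : Fin d → Fin n) (ha : StrictMono a) (τ : Equiv.Perm (Fin d)) (hτ : τ ≠ 1) :
    om d n (K677.LIGr.colExp fun t => a (τ t)) < om d n (K677.LIGr.colExp a) := by
  rw [om_colExp, om_colExp]
  have h1 : Monovary (fun t : Fin d => (a t).val) (fun t : Fin d => t.val) := by
    intro i j hij
    exact ha.monotone (le_of_lt hij)
  rw [h1.sum_comp_perm_mul_lt_sum_mul_iff]
  intro h2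
  apply hτ
  have h3 : StrictMono τ := by
    intro i j hij
    have h4 : (a (τ i)).val ≤ (a (τ j)).val := h2 hij
    have h5 : τ i ≤ τ j := ha.le_iff_le.1 h4
    exact lt_of_le_of_ne h5 (fun h => hij.ne (τ.injective h))
  have h6 : (τ : Fin d → Fin d) = id := by
    have h7 := Subsingleton.elim (h3.orderIsoOfSurjective τ τ.surjective) (OrderIso.refl (Fin d))
    funext x
    have h8 := congrArg (fun e : Fin d ≃o Fin d => e x) h7
    exact h8
  exact Equiv.ext fun x => congrFun h6 x

lemma isLead_minor (K : Type u) [CommRing K] (a : Idx d n) :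
    IsLead (om d n) (minor K d n a.1) (K677.LIGr.colExp a.1) := by
  classical
  have hres : minor K d n a.1 = K677.LIGr.res K (fun _ _ => True) (minor K d n a.1) := by
    have h : K677.LIGr.res K (fun (_ : Fin n) (_ : Fin d) => True) = AlgHom.id K _ := by
      apply MvPolynomial.algHom_ext
      rintro ⟨i, j⟩
      rw [K677.LIGr.res_X K _ _ _ trivial]
      rfl
    rw [h]
    rfl
  rw [hres, K677.LIGr.res_minor]
  constructor
  · rw [coeff_sum, Finset.sum_eq_single 1]
    · have h1 : K677.LIGr.colExp (fun t => a.1 ((1 : Equiv.Perm (Fin d)) t)) = K677.LIGr.colExp a.1 := rfl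
      rw [coeff_monomial, if_pos h1, if_pos (fun _ => trivial)]
      simp
    · intro τ _ hτ
      rw [coeff_monomial, if_neg]
      intro h
      have h2 := om_perm_lt a.1 a.2 τ hτ
      rw [h] at h2
      exact lt_irrefl _ h2
    · intro h
      exact absurd (Finset.mem_univ _) h
  · intro m hm hne
    rw [coeff_sum] at hm
    obtain ⟨τ, _, h0⟩ := Finset.exists_ne_zero_of_sum_ne_zero hm
    rw [coeff_monomial] at h0
    have h1 : (K677.LIGr.colExp fun t => a.1 (τ t)) = m := by
      by_contra h
      exact h0 (if_neg h)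
    rw [← h1]
    apply om_perm_lt a.1 a.2
    rintro rfl
    exact hne h1.symm

lemma isLead_pluckerMap (K : Type u) [CommRing K] (a b : Idx d n) :
    IsLead (om d n) (pluckerMap K d n (X a * X b)) (K677.LIGr.colExp a.1 + K677.LIGr.colExp b.1) := by
  rw [map_mul]
  unfold pluckerMap
  rw [aeval_X, aeval_X]
  exact (isLead_minor K a).mul (isLead_minor K b)

end minors

end K678.Lead
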