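import Groth.Agent.W4bk4grassmannian.K678.ChainSpan
import Groth.Agent.W4bk4grassmannian.K678.Lead
import Groth.Agent.W4bk4grassmannian.K677.Fine
import Groth.Agent.S11261

/-!
The straightening relations on a Schubert variety, with the weights of their terms.
-/

set_option autoImplicit false

open MvPolynomial W4bk4grassmannian K678.ChainSpan

universe u

namespace K678.SchubertRel

variable {d n : ℕ}

/-- the weight of an index -/
def wgt (θ : Idx d n) : ℕ := ∑ t, (θ.1 t).val * t.val

lemma om_colExp (θ : Idx d n) : Lead.om d n (K677.LIGr.colExp θ.1) = wgt θ := Lead.om_colExp θ.1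

lemma wgt_sup_inf (a b : Idx d n) :
    wgt (W4bk4grassmannian.sup a b) + wgt (W4bk4grassmannian.inf a b) = wgt a + wgt b := by
  rw [← om_colExp, ← om_colExp, ← om_colExp, ← om_colExp, ← map_add, ← map_add, K677.Fine.colExp_sup_inf]

lemma pair_injOn (hd : 0 < d) (s : Finset (Idx d n × Idx d n)) (hs : ∀ p ∈ s, p.2 ≤ p.1) :
    Set.InjOn (fun p : Idx d n × Idx d n => K677.LIGr.colExp p.1.1 + K677.LIGr.colExp p.2.1) s := by
  intro p hp q hq h
  have h1 : K677.Fine.toChain ⟨p, hs p hp⟩ = K677.Fine.toChain ⟨q, hs q hq⟩ := by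
    apply K677.LIGr.exp_injective hd
    show ∑ x : Fin 2, K677.LIGr.colExp ((![p.1, p.2] : Fin 2 → Idx d n) x).1 =
      ∑ x : Fin 2, K677.LIGr.colExp ((![q.1, q.2] : Fin 2 → Idx d n) x).1
    rw [Fin.sum_univ_two, Fin.sum_univ_two]
    exact h
  exact congrArg Subtype.val (K677.Fine.toChain_injective h1)

/-- the straightening relation of a skew pair with the weights of its terms -/
theorem straighten (K : Type u) [Field K] [IsAlgClosed K] (hd : 0 < d) (hdn : d < n) (a b : Idx d n)
    (hab : ¬ a ≤ b) (hba : ¬ b ≤ a) :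
    ∃ l : (Idx d n × Idx d n) → K,
      (∀ p, l p ≠ 0 → p.2 ≤ p.1 ∧ W4bk4grassmannian.sup a b < p.1 ∧ p.2 < W4bk4grassmannian.inf a b ∧
        wgt p.1 + wgt p.2 < wgt a + wgt b) ∧
      X a * X b - X (W4bk4grassmannian.sup a b) * X (W4bk4grassmannian.inf a b) -
        ∑ p, l p • (X p.1 * X p.2) ∈ vanishing K d n := by
  classical
  obtain ⟨g, hg, hv⟩ := Groth.Agent.S11261.result K d n hd hdn a b hab hba
  have hset : {f : PlRing K d n | ∃ α β : Idx d n,
        β ≤ α ∧ W4bk4grassmannian.sup a b < α ∧ β < W4bk4grassmannian.inf a b ∧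
          f = MvPolynomial.X α * MvPolynomial.X β} =
      (fun p : Idx d n × Idx d n => (X p.1 * X p.2 : PlRing K d n)) ''
        {p | p.2 ≤ p.1 ∧ W4bk4grassmannian.sup a b < p.1 ∧ p.2 < W4bk4grassmannian.inf a b} := by
    ext f
    constructor
    · rintro ⟨α, β, h1, h2, h3, rfl⟩
      exact ⟨(α, β), ⟨h1, h2, h3⟩, rfl⟩
    · rintro ⟨p, ⟨h1, h2, h3⟩, rfl⟩
      exact ⟨p.1, p.2, h1, h2, h3, rfl⟩
  rw [hset, Finsupp.mem_span_image_iff_linearCombination] at hg
  obtain ⟨l, hl, hlg⟩ := hg
  rw [Finsupp.mem_supported] at hl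
  rw [Finsupp.linearCombination_apply, Finsupp.sum] at hlg
  have hcond : ∀ p, l p ≠ 0 →
      p.2 ≤ p.1 ∧ W4bk4grassmannian.sup a b < p.1 ∧ p.2 < W4bk4grassmannian.inf a b := fun p hp =>
    hl (Finsupp.mem_support_iff.2 hp)
  have hrel : ∑ p ∈ l.support, l p • pluckerMap K d n (X p.1 * X p.2) =
      pluckerMap K d n (X a * X b) -
        pluckerMap K d n (X (W4bk4grassmannian.sup a b) * X (W4bk4grassmannian.inf a b)) := by
    rw [K677.LIGr.mem_vanishing_iff_pluckerMap, map_sub, map_sub, sub_eq_zero] at hv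
    rw [hv, ← hlg, map_sum]
    apply Finset.sum_congr rfl
    intro p _
    rw [map_smul]
  have hweight : ∀ p, l p ≠ 0 → wgt p.1 + wgt p.2 < wgt a + wgt b := by
    intro p hp
    have h1 := Lead.weight_lt (ω := Lead.om d n) l.support l
      (fun p : Idx d n × Idx d n => pluckerMap K d n (X p.1 * X p.2))
      (fun p => K677.LIGr.colExp p.1.1 + K677.LIGr.colExp p.2.1)
      (fun p _ => Lead.isLead_pluckerMap K p.1 p.2)
      (pair_injOn hd l.support fun p hp => (hcond p (Finsupp.mem_support_iff.1 hp)).1)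
      _ (Lead.om d n (K677.LIGr.colExp a.1 + K677.LIGr.colExp b.1))
      (fun m hm => Lead.sub_lt (Lead.isLead_pluckerMap K a b)
        (by
          rw [← K677.Fine.colExp_sup_inf]
          exact Lead.isLead_pluckerMap K _ _) m hm)
      hrel p (Finsupp.mem_support_iff.2 hp) hp
    simp only [map_add, om_colExp] at h1
    exact h1
  refine ⟨l, fun p hp => ⟨(hcond p hp).1, (hcond p hp).2.1, (hcond p hp).2.2, hweight p hp⟩, ?_⟩
  have hsum : ∑ p, l p • (X p.1 * X p.2 : PlRing K d n) = g := by
    rw [← hlg]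
    symm
    apply Finset.sum_subset (Finset.subset_univ _)
    intro p _ hp
    rw [Finsupp.notMem_support_iff.1 hp, zero_smul]
  rw [hsum]
  exact hv

variable (K : Type u) [Field K]

/-- the class of a Plücker coordinate on the Schubert variety -/
noncomputable def xb (w : Idx d n) (θ : Below w) : PlRing K d n ⧸ schubertVanishing K d n w :=
  Ideal.Quotient.mk _ (X θ.1)

lemma adjoin_xb (w : Idx d n) : Algebra.adjoin K (Set.range (xb K w)) = ⊤ := by
  have h1 : Algebra.adjoin K ((Ideal.Quotient.mkₐ K (schubertVanishing K d n w)) '' (Set.range X)) = ⊤ := by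
    rw [← AlgHom.map_adjoin, MvPolynomial.adjoin_range_X, Algebra.map_top]
    exact (AlgHom.range_eq_top _).2 (Ideal.Quotient.mkₐ_surjective _ _)
  rw [eq_top_iff, ← h1, Algebra.adjoin_le_iff]
  rintro _ ⟨_, ⟨θ, rfl⟩, rfl⟩
  by_cases hθ : θ ≤ w
  · exact Algebra.subset_adjoin ⟨⟨θ, hθ⟩, rfl⟩
  · have h2 : Ideal.Quotient.mkₐ K (schubertVanishing K d n w) (X θ) = 0 :=
      Ideal.Quotient.eq_zero_iff_mem.2 (K677.LIGr.X_mem_schubertVanishing K w θ hθ)
    rw [h2]
    exact Subalgebra.zero_mem _

theorem linearIndependent_xb [Infinite K] (hd : 0 < d) (w : Idx d n) : LinearIndependent K (sm (xb K w)) := by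
  have h := K677.LIGr.linearIndependent_mod K hd {w} (schubertVanishing K d n w)
    (fun w' hw' => by rw [Set.mem_singleton_iff.1 hw'])
  let e : Ch (Below w) → (Σ m : ℕ, {c : Fin m → Idx d n // Antitone c ∧ ∃ w' ∈ ({w} : Set (Idx d n)), ∀ k, c k ≤ w'}) :=
    fun c => ⟨c.1, fun k => (c.2.1 k).1, fun i j hij => c.2.2 hij, w, rfl, fun k => (c.2.1 k).2⟩
  have he : Function.Injective e := by
    rintro ⟨m, c, hc⟩ ⟨m', c', hc'⟩ h
    simp only [e, Sigma.mk.injEq] at h
    obtain ⟨rfl, h⟩ := h
    rw [heq_eq_eq, Subtype.mk.injEq] at h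
    congr 1
    apply Subtype.ext
    funext k
    exact Subtype.ext (congrFun h k)
  have h2 := h.comp e he
  have h3 : ((fun c : (Σ m : ℕ, {c : Fin m → Idx d n // Antitone c ∧ ∃ w' ∈ ({w} : Set (Idx d n)), ∀ k, c k ≤ w'}) =>
      Ideal.Quotient.mk (schubertVanishing K d n w) (chainMon K c.2.1)) ∘ e) = sm (xb K w) := by
    funext c
    show Ideal.Quotient.mk (schubertVanishing K d n w) (chainMon K fun k => (c.2.1 k).1) = _
    unfold chainMon sm xb
    rw [map_prod]
  rw [h3] at h2
  exact h2

lemma below_lt_iff {w : Idx d n} (a b : Below w) : a < b ↔ a.1 < b.1 := Iff.rfl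

/-- the straightening relations on the Schubert variety `X(w)` -/
theorem exists_rel [IsAlgClosed K] (hd : 0 < d) (hdn : d < n) (w : Idx d n) [Fintype (Below w)] (a b : Below w)
    (hab : ¬ a ≤ b) (hba : ¬ b ≤ a) :
    ∃ A : Below w × Below w → K,
      (∀ p, A p ≠ 0 → a < p.1 ∧ b < p.1) ∧
      (∀ p, A p ≠ 0 → p ≠ (Below.sup a b, Below.inf a b) → wgt p.1.1 + wgt p.2.1 < wgt a.1 + wgt b.1) ∧
      A (Below.sup a b, Below.inf a b) = 1 ∧
      xb K w a * xb K w b = ∑ p : Below w × Below w, A p • (xb K w p.1 * xb K w p.2) := by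
  classical
  obtain ⟨l, hl, hv⟩ := straighten K hd hdn a.1 b.1 hab hba
  have hl0 : l (W4bk4grassmannian.sup a.1 b.1, W4bk4grassmannian.inf a.1 b.1) = 0 := by
    by_contra h
    exact absurd (hl _ h).2.1 (lt_irrefl _)
  have hsup : a < Below.sup a b ∧ b < Below.sup a b := by
    constructor
    · refine lt_of_le_of_ne (fun t => le_max_left _ _) ?_
      intro h
      apply hba
      intro t
      have h2 : (b.1.1 t) ≤ ((Below.sup a b).1.1 t) := le_max_right _ _
      rw [← h] at h2
      exact h2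
    · refine lt_of_le_of_ne (fun t => le_max_right _ _) ?_
      intro h
      apply hab
      intro t
      have h2 : (a.1.1 t) ≤ ((Below.sup a b).1.1 t) := le_max_left _ _
      rw [← h] at h2
      exact h2
  refine ⟨fun p => (if p = (Below.sup a b, Below.inf a b) then 1 else 0) + l (p.1.1, p.2.1), ?_, ?_, ?_, ?_⟩
  · intro p hp
    by_cases h : p = (Below.sup a b, Below.inf a b)
    · rw [h]; exact hsup
    · simp only [if_neg h, zero_add] at hp
      have h1 := (hl _ hp).2.1
      exact ⟨lt_trans hsup.1 h1, lt_trans hsup.2 h1⟩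
  · intro p hp h
    simp only [if_neg h, zero_add] at hp
    exact (hl _ hp).2.2.2
  · show (if (Below.sup a b, Below.inf a b) = (Below.sup a b, Below.inf a b) then (1 : K) else 0) +
      l (W4bk4grassmannian.sup a.1 b.1, W4bk4grassmannian.inf a.1 b.1) = 1
    rw [if_pos rfl, hl0, add_zero]
  · have h1 := Ideal.Quotient.eq_zero_iff_mem.2 (K677.LIGr.vanishing_le_schubertVanishing K w hv)
    rw [map_sub, map_sub, sub_sub, sub_eq_zero, map_mul, map_mul, map_sum] at h1
    have h2 : xb K w a * xb K w b = Ideal.Quotient.mk (schubertVanishing K d n w) (X a.1) *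
      Ideal.Quotient.mk (schubertVanishing K d n w) (X b.1) := rfl
    rw [h2, h1]
    simp only [add_smul, Finset.sum_add_distrib]
    congr 1
    · rw [Finset.sum_eq_single (Below.sup a b, Below.inf a b)]
      · rw [if_pos rfl, one_smul]
        rfl
      · intro p _ hp
        rw [if_neg hp, zero_smul]
      · intro h; exact absurd (Finset.mem_univ _) h
    · symm
      apply Finset.sum_of_injOn (fun p : Below w × Below w => (p.1.1, p.2.1))
      · intro p _ q _ h
        simp only [Prod.mk.injEq] at h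
        exact Prod.ext (Subtype.ext h.1) (Subtype.ext h.2)
      · intro p _
        exact Finset.mem_coe.2 (Finset.mem_univ _)
      · intro p _ hp
        by_cases hp0 : l p = 0
        · rw [hp0, zero_smul, map_zero]
        · have h3 := hl p hp0
          have h4 : ¬ p.1 ≤ w := by
            intro h5
            apply hp
            refine ⟨(⟨p.1, h5⟩, ⟨p.2, le_trans h3.1 h5⟩), Finset.mem_coe.2 (Finset.mem_univ _), rfl⟩
          have h6 : Ideal.Quotient.mk (schubertVanishing K d n w) (X p.1) = 0 :=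
            Ideal.Quotient.eq_zero_iff_mem.2 (K677.LIGr.X_mem_schubertVanishing K w p.1 h4)
          have h7 : Ideal.Quotient.mk (schubertVanishing K d n w) (l p • (X p.1 * X p.2)) =
            l p • (Ideal.Quotient.mk (schubertVanishing K d n w) (X p.1) *
              Ideal.Quotient.mk (schubertVanishing K d n w) (X p.2)) := rfl
          rw [h7, h6, zero_mul, smul_zero]
      · intro p _
        rfl

end K678.SchubertRel
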