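import Groth.Agent.Ega4B.DimFT
import Mathlib.RingTheory.GradedAlgebra.Noetherian
import Mathlib.RingTheory.GradedAlgebra.FiniteType
import Mathlib.RingTheory.GradedAlgebra.Homogeneous.Ideal
import Mathlib.RingTheory.GradedAlgebra.Radical
import Mathlib.RingTheory.FiniteType
import Mathlib.RingTheory.KrullDimension.Basic

/-!
# Graded Noetherian algebras over a field: dimension at the irrelevant ideal

Let `A = ⊕ 𝒜 n` be a Noetherian `ℕ`-graded `K`-algebra with `𝒜 0` the image of the field `K`.
* `finiteType`: `A` is a `K`-algebra of finite type;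
* `isMaximal_irrelevant`: the irrelevant ideal is maximal (`A` nontrivial);
* `le_irrelevant`: proper homogeneous ideals are contained in it;
* `height_irrelevant`: for a proper homogeneous ideal `I`, the dimension of `A ⧸ I` is the height of the image
  of the irrelevant ideal.
-/

set_option autoImplicit false
universe u v

namespace K678.GradedDim

variable {K : Type u} [Field K] {A : Type v} [CommRing A] [Algebra K A] (𝒜 : ℕ → Submodule K A)
  [GradedAlgebra 𝒜]

theorem finiteType [IsNoetherianRing A] (h0 : ∀ a ∈ 𝒜 0, ∃ c : K, algebraMap K A c = a) :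
    Algebra.FiniteType K A := by
  classical
  have hspan : (HomogeneousIdeal.irrelevant 𝒜).toIdeal = Ideal.span (⋃ i > 0, (𝒜 i : Set A)) :=
    HomogeneousIdeal.irrelevant_eq_span 𝒜
  have hfg : (Ideal.span (⋃ i > 0, (𝒜 i : Set A))).FG := IsNoetherian.noetherian _
  obtain ⟨t, hts, hteq⟩ := Submodule.fg_span_iff_fg_span_finset_subset _ |>.mp hfg
  refine ⟨t, ?_⟩
  rw [← top_le_iff]
  have key : ∀ n : ℕ, ∀ a ∈ 𝒜 n, a ∈ Algebra.adjoin K (t : Set A) := by
    intro n
    induction n using Nat.strong_induction_on with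
    | _ n ih =>
      intro a ha
      rcases Nat.eq_zero_or_pos n with rfl | hn
      · obtain ⟨c, rfl⟩ := h0 a ha
        exact Subalgebra.algebraMap_mem (Algebra.adjoin K (t : Set A)) c
      · have h1 : a ∈ Submodule.span A (t : Set A) := by
          rw [← hteq]
          exact Ideal.subset_span (Set.mem_iUnion₂.mpr ⟨n, hn, ha⟩)
        obtain ⟨c, -, hc⟩ := Submodule.mem_span_finset.mp h1
        have h2 : a = ∑ x ∈ t, (GradedRing.proj 𝒜 n (c x * x)) := by
          rw [← map_sum]
          have : ∑ x ∈ t, c x * x = a := by simpa [smul_eq_mul] using hc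
          rw [this, GradedRing.proj_apply, DirectSum.decompose_of_mem_same 𝒜 ha]
        rw [h2]
        refine sum_mem fun x hx => ?_
        obtain ⟨i, hi, hxi⟩ := Set.mem_iUnion₂.mp (hts hx)
        by_cases hin : i ≤ n
        · rw [GradedRing.proj_apply, DirectSum.coe_decompose_mul_of_right_mem_of_le 𝒜 hxi hin]
          refine mul_mem (ih (n - i) (by omega) _ (SetLike.coe_mem _)) (Algebra.subset_adjoin hx)
        · rw [GradedRing.proj_apply, DirectSum.coe_decompose_mul_of_right_mem_of_not_le 𝒜 hxi hin]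
          exact zero_mem _
  intro a _
  rw [← DirectSum.sum_support_decompose 𝒜 a]
  exact sum_mem fun n _ => key n _ (SetLike.coe_mem _)

theorem isMaximal_irrelevant [Nontrivial A] (h0 : ∀ a ∈ 𝒜 0, ∃ c : K, algebraMap K A c = a) :
    (HomogeneousIdeal.irrelevant 𝒜).toIdeal.IsMaximal := by
  rw [Ideal.isMaximal_iff]
  constructor
  · intro h
    rw [HomogeneousIdeal.mem_iff, HomogeneousIdeal.mem_irrelevant_iff] at h
    rw [GradedRing.proj_apply, DirectSum.decompose_of_mem_same 𝒜 SetLike.GradedOne.one_mem] at h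
    exact one_ne_zero h
  · intro J x hJ hx hxJ
    obtain ⟨c, hc⟩ := h0 (GradedRing.proj 𝒜 0 x) (by
      rw [GradedRing.proj_apply]; exact SetLike.coe_mem _)
    have hc0 : c ≠ 0 := by
      rintro rfl
      apply hx
      change x ∈ HomogeneousIdeal.irrelevant 𝒜
      rw [HomogeneousIdeal.mem_irrelevant_iff, ← hc, map_zero]
    have h1 : x - algebraMap K A c ∈ J := by
      apply hJ
      change _ ∈ HomogeneousIdeal.irrelevant 𝒜
      rw [HomogeneousIdeal.mem_irrelevant_iff, map_sub, ← hc, sub_eq_zero]
      rw [GradedRing.proj_apply, DirectSum.decompose_of_mem_same 𝒜 (SetLike.algebraMap_mem_graded 𝒜 c)]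
    have h2 : algebraMap K A c ∈ J := by
      have := J.sub_mem hxJ h1
      simpa using this
    have h3 := J.mul_mem_left (algebraMap K A c⁻¹) h2
    rwa [← map_mul, inv_mul_cancel₀ hc0, map_one] at h3

theorem le_irrelevant (h0 : ∀ a ∈ 𝒜 0, ∃ c : K, algebraMap K A c = a) {I : Ideal A}
    (hI : I.IsHomogeneous 𝒜) (hne : I ≠ ⊤) : I ≤ (HomogeneousIdeal.irrelevant 𝒜).toIdeal := by
  intro x hx
  change _ ∈ HomogeneousIdeal.irrelevant 𝒜
  rw [HomogeneousIdeal.mem_irrelevant_iff, GradedRing.proj_apply]
  have h1 := hI 0 hx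
  obtain ⟨c, hc⟩ := h0 _ (SetLike.coe_mem (DirectSum.decompose 𝒜 x 0))
  by_contra hne'
  rw [← hc] at h1 hne'
  apply hne
  have hc0 : c ≠ 0 := by
    rintro rfl
    exact hne' (map_zero _)
  rw [Ideal.eq_top_iff_one]
  have h3 := I.mul_mem_left (algebraMap K A c⁻¹) h1
  rwa [← map_mul, inv_mul_cancel₀ hc0, map_one] at h3

theorem isHomogeneous_of_mem_minimalPrimes {I : Ideal A} (hI : I.IsHomogeneous 𝒜) {P : Ideal A}
    (hP : P ∈ I.minimalPrimes) : P.IsHomogeneous 𝒜 := by
  have hPp : P.IsPrime := hP.1.1
  have h1 : (P.homogeneousCore 𝒜).toIdeal.IsPrime := hPp.homogeneousCore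
  have h2 : I ≤ (P.homogeneousCore 𝒜).toIdeal := by
    rw [← hI.toIdeal_homogeneousCore_eq_self]
    exact Ideal.homogeneousCore_mono 𝒜 hP.1.2
  have h3 := hP.2 ⟨h1, h2⟩ (Ideal.toIdeal_homogeneousCore_le 𝒜 P)
  have h4 : (P.homogeneousCore 𝒜).toIdeal = P := le_antisymm (Ideal.toIdeal_homogeneousCore_le 𝒜 P) h3
  rw [← h4]
  exact (P.homogeneousCore 𝒜).isHomogeneous

/-- For a proper homogeneous ideal, the height of the image of the irrelevant ideal is the dimension. -/
theorem height_irrelevant [IsNoetherianRing A] (h0 : ∀ a ∈ 𝒜 0, ∃ c : K, algebraMap K A c = a)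
    {I : Ideal A} (hI : I.IsHomogeneous 𝒜) (hne : I ≠ ⊤) :
    ((((HomogeneousIdeal.irrelevant 𝒜).toIdeal.map (Ideal.Quotient.mk I)).height : ℕ∞) : WithBot ℕ∞) =
      ringKrullDim (A ⧸ I) := by
  have hA : Nontrivial A := by
    by_contra h
    rw [not_nontrivial_iff_subsingleton] at h
    exact hne (Subsingleton.elim _ _)
  set m := (HomogeneousIdeal.irrelevant 𝒜).toIdeal with hm
  have hmax : m.IsMaximal := isMaximal_irrelevant 𝒜 h0
  have hft := finiteType 𝒜 h0
  have hIm : I ≤ m := le_irrelevant 𝒜 h0 hI hne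
  have hprime : ∀ J : Ideal A, J ≤ m → (m.map (Ideal.Quotient.mk J)).IsMaximal := by
    intro J hJ
    refine (Ideal.map_eq_top_or_isMaximal_of_surjective _ Ideal.Quotient.mk_surjective hmax).resolve_left ?_
    intro h
    have h1 := congrArg (Ideal.comap (Ideal.Quotient.mk J)) h
    rw [Ideal.comap_map_of_surjective _ Ideal.Quotient.mk_surjective, Ideal.comap_top,
      ← RingHom.ker_eq_comap_bot, Ideal.mk_ker, sup_eq_left.2 hJ] at h1
    exact hmax.ne_top h1
  have hmI := hprime I hIm
  have : Nontrivial (A ⧸ I) := Ideal.Quotient.nontrivial_iff.2 hne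
  apply le_antisymm
  · exact Ideal.height_le_ringKrullDim_of_ne_top hmI.ne_top
  · rw [ringKrullDim, Order.krullDim]
    refine iSup_le fun p => ?_
    -- minimal prime over `I` below the head of the chain
    obtain ⟨P, hP, hPle⟩ := Ideal.exists_minimalPrimes_le (I := I)
      (J := p.head.asIdeal.comap (Ideal.Quotient.mk I)) (by
        intro x hx
        rw [Ideal.mem_comap, Ideal.Quotient.eq_zero_iff_mem.2 hx]
        exact zero_mem _)
    have hPp : P.IsPrime := hP.1.1
    have hPh := isHomogeneous_of_mem_minimalPrimes 𝒜 hI hP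
    have hPm : P ≤ m := le_irrelevant 𝒜 h0 hPh hPp.ne_top
    have hmP := hprime P hPm
    have hd := Groth.Agent.Ega4B.DimFT.height_maximal K (A ⧸ P) (m.map (Ideal.Quotient.mk P))
    -- the chain lives in `Spec (A / P)`
    have h1 : ((p.length : ℕ∞) : WithBot ℕ∞) ≤ ringKrullDim (A ⧸ P) := by
      let g : (A ⧸ I) →+* (A ⧸ P) := Ideal.Quotient.factor hP.1.2
      have hg : Function.Surjective g := Ideal.Quotient.factor_surjective hP.1.2
      have hker : RingHom.ker g ≤ p.head.asIdeal := by
        intro x hx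
        obtain ⟨a, rfl⟩ := Ideal.Quotient.mk_surjective x
        rw [RingHom.mem_ker, Ideal.Quotient.factor_mk, Ideal.Quotient.eq_zero_iff_mem] at hx
        exact hPle hx
      have hlift : ∀ i : Fin (p.length + 1), RingHom.ker g ≤ (p i).asIdeal := fun i =>
        hker.trans (p.monotone (Fin.zero_le i))
      have hpr : ∀ i : Fin (p.length + 1), ((p i).asIdeal.map g).IsPrime := fun i =>
        Ideal.map_isPrime_of_surjective hg (hlift i)
      let p' : LTSeries (PrimeSpectrum (A ⧸ P)) :=
        { length := p.length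
          toFun := fun i => ⟨(p i).asIdeal.map g, hpr i⟩
          step := by
            intro i
            have h2 := p.step i
            change (p i.castSucc).asIdeal.map g < (p i.succ).asIdeal.map g
            have h3 : (p i.castSucc).asIdeal < (p i.succ).asIdeal := h2
            refine lt_of_le_of_ne (Ideal.map_mono h3.le) fun h => h3.ne ?_
            have h4 := congrArg (Ideal.comap g) h
            rwa [Ideal.comap_map_of_surjective _ hg, Ideal.comap_map_of_surjective _ hg,
              ← RingHom.ker_eq_comap_bot, sup_eq_left.2 (hlift _), sup_eq_left.2 (hlift _)] at h4 }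
      exact Order.LTSeries.length_le_krullDim p'
    refine h1.trans ?_
    rw [← hd]
    have h2 : (m.map (Ideal.Quotient.mk P)).height ≤ (m.map (Ideal.Quotient.mk I)).height := by
      let g : (A ⧸ I) →+* (A ⧸ P) := Ideal.Quotient.factor hP.1.2
      have hg : Function.Surjective g := Ideal.Quotient.factor_surjective hP.1.2
      have h3 := PrimeSpectrum.height_eq_orderHeight (⟨m.map (Ideal.Quotient.mk P), hmP.isPrime⟩ : PrimeSpectrum (A ⧸ P))
      have h4 := PrimeSpectrum.height_eq_orderHeight (⟨m.map (Ideal.Quotient.mk I), hmI.isPrime⟩ : PrimeSpectrum (A ⧸ I))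
      change (m.map (Ideal.Quotient.mk P)).height = _ at h3
      change (m.map (Ideal.Quotient.mk I)).height = _ at h4
      rw [h3, h4]
      have hcomap : PrimeSpectrum.comap g ⟨m.map (Ideal.Quotient.mk P), hmP.isPrime⟩ =
          ⟨m.map (Ideal.Quotient.mk I), hmI.isPrime⟩ := by
        apply PrimeSpectrum.ext
        change (m.map (Ideal.Quotient.mk P)).comap g = _
        symm
        refine hmI.eq_of_le (Ideal.comap_ne_top g hmP.ne_top) ?_
        rw [← Ideal.map_le_iff_le_comap, Ideal.map_map]
        have : g.comp (Ideal.Quotient.mk I) = Ideal.Quotient.mk P := by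
          ext a; rfl
        rw [this]
      rw [← hcomap]
      have hsm : StrictMono (PrimeSpectrum.comap g) := by
        intro x y hxy
        have h5 : x.asIdeal < y.asIdeal := hxy
        change x.asIdeal.comap g < y.asIdeal.comap g
        refine lt_of_le_of_ne (Ideal.comap_mono h5.le) fun h => h5.ne ?_
        exact Ideal.comap_injective_of_surjective g hg h
      exact Order.height_le_height_apply_of_strictMono _ hsm _
    exact_mod_cast h2

end K678.GradedDim
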