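import Groth.Agent.S2698
import Groth.Agent.Sga3C.CMPoint
import Groth.Agent.W4bk4grassmannian.K678.CMInf

/-!
# The Cohen–Macaulay locus of an algebra of finite type over a field is open
-/

set_option autoImplicit false
universe u

namespace K678.CMOpen

open Groth.Agent Groth.Agent.Ega4C.GenericDepth Groth.Agent.Ega4C.DepthExt

/-- A domain of finite type over a field is Cohen–Macaulay on a nonempty open set. -/
theorem exists_open (K : Type u) [Field K] (B : Type u) [CommRing B] [IsDomain B] [Algebra K B]
    [Algebra.FiniteType K B] : ∃ U : Set (PrimeSpectrum B), IsOpen U ∧ U.Nonempty ∧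
      ∀ q ∈ U, LocCoh.IsCohenMacaulayLocalRing (Localization.AtPrime q.asIdeal) := by
  obtain ⟨s, g, hg, hfin⟩ := exists_finite_inj_algHom_of_fg K B
  let A := MvPolynomial (Fin s) K
  algebraize [g.toRingHom]
  have hinj : Function.Injective (algebraMap A B) := hg
  have hAB : Module.Finite A B := hfin
  have : Module.FinitePresentation A B := Module.finitePresentation_of_finite A B
  have h0 : (⊥ : PrimeSpectrum A) ∈ Module.freeLocus A B := by
    have : IsLocalization.AtPrime (FractionRing A) (⊥ : PrimeSpectrum A).asIdeal := by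
      change IsLocalization (⊥ : Ideal A).primeCompl (FractionRing A)
      rw [Ideal.primeCompl_bot]
      infer_instance
    rw [Module.mem_freeLocus_iff_tensor _ (FractionRing A)]
    infer_instance
  have := Sga3C.CMPoint.isCohenMacaulayRing_field K
  have : LocCoh.IsCohenMacaulayRing A := CalgB.CMPoly.isCohenMacaulayRing_mvPolynomial K s
  refine ⟨PrimeSpectrum.comap (algebraMap A B) ⁻¹' Module.freeLocus A B,
    Module.isOpen_freeLocus.preimage (PrimeSpectrum.continuous_comap (algebraMap A B)), ⟨⊥, ?_⟩, fun q hq => ?_⟩
  · have : PrimeSpectrum.comap (algebraMap A B) ⊥ = ⊥ := by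
      apply PrimeSpectrum.ext
      change (⊥ : Ideal B).comap (algebraMap A B) = ⊥
      exact Ideal.comap_bot_of_injective (algebraMap A B) hinj
    rw [Set.mem_preimage, this]
    exact h0
  · exact Sga3C.CMPoint.isCohenMacaulayLocalRing_of_mem_freeLocus (A := A) q.asIdeal hq

theorem isOpen_cm (K : Type u) [Field K] (B : Type u) [CommRing B] [Algebra K B]
    [Algebra.FiniteType K B] :
    IsOpen {p : PrimeSpectrum B | LocCoh.IsCohenMacaulayLocalRing (Localization.AtPrime p.asIdeal)} := by
  have : IsNoetherianRing B := Algebra.FiniteType.isNoetherianRing K B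
  have h := (S2698.result B (fun p _ => exists_open K (B ⧸ p)) B 0).1
  convert h using 1
  ext p
  have e : Localization.AtPrime p.asIdeal ≃ₗ[Localization.AtPrime p.asIdeal]
      LocalizedModule p.asIdeal.primeCompl B :=
    ((LinearEquiv.extendScalarsOfIsLocalization p.asIdeal.primeCompl
      (Localization.AtPrime p.asIdeal) (IsLocalizedModule.iso p.asIdeal.primeCompl
      (Algebra.linearMap B (Localization.AtPrime p.asIdeal)))).symm)
  simp only [Set.mem_ofPred_eq, Nat.cast_zero, add_zero]
  rw [← Module.supportDim_eq_of_equiv e, ← depth_congr _ e, Module.supportDim_self_eq_ringKrullDim]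
  constructor
  · intro hp
    have h1 := LocCoh.IsCohenMacaulayLocalRing.supportDim_eq_depth (R := Localization.AtPrime p.asIdeal)
    rw [Module.supportDim_self_eq_ringKrullDim] at h1
    exact h1.le
  · intro hp
    have hfin : ringKrullDim (Localization.AtPrime p.asIdeal) < ⊤ := ringKrullDim_lt_top
    obtain ⟨d, hd⟩ : ∃ d : ℕ, ringKrullDim (Localization.AtPrime p.asIdeal) = (d : WithBot ℕ∞) := by
      rw [IsLocalization.AtPrime.ringKrullDim_eq_height p.asIdeal] at hfin ⊢
      have h2 : p.asIdeal.height ≠ ⊤ := by
        intro h3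
        rw [h3] at hfin
        exact lt_irrefl _ hfin
      obtain ⟨d, hd⟩ := ENat.ne_top_iff_exists.1 h2
      exact ⟨d, by rw [← hd]; rfl⟩
    rw [hd] at hp
    exact (CMInf.isCM_of_le_depth _ d (by exact_mod_cast hp) hd.le).1

end K678.CMOpen
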