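import Mathlib.Order.Interval.Set.Basic
import Mathlib.RingTheory.Adjoin.Basic
import Mathlib.LinearAlgebra.Span.Basic
import Mathlib.Algebra.BigOperators.Fin
import Mathlib.Data.Fintype.Order
import Mathlib.Tactic

/-!
Standard monomials (products along chains) over a finite partially ordered set span, as soon as the product of two
incomparable generators is a combination of products `x α * x β` with `α` strictly above both.
-/

set_option autoImplicit false

namespace K678.ChainSpan

/-- descending chains of a preorder, as tuples -/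
abbrev Ch (P : Type*) [Preorder P] : Type _ := Σ m : ℕ, {c : Fin m → P // Antitone c}

/-- the standard monomial of a chain -/
def sm {P : Type*} [Preorder P] {B : Type*} [CommMonoid B] (x : P → B) (c : Ch P) : B :=
  ∏ k, x (c.2.1 k)

lemma map_sm {P : Type*} [Preorder P] {B B' : Type*} [CommMonoid B] [CommMonoid B'] {F : Type*} [FunLike F B B']
    [MonoidHomClass F B B'] (f : F) (x : P → B) (c : Ch P) : f (sm x c) = sm (fun a => f (x a)) c := by
  unfold sm
  rw [map_prod]

variable {P : Type*} [PartialOrder P]

theorem exists_chain (m : ℕ) : ∀ (s : Multiset P), s.card = m →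
    (∀ a ∈ s, ∀ b ∈ s, a ≤ b ∨ b ≤ a) →
    ∃ c : Fin m → P, Antitone c ∧ Finset.univ.val.map c = s := by
  induction m with
  | zero =>
    intro s hs _
    refine ⟨fun k => k.elim0, fun a => a.elim0, ?_⟩
    rw [Multiset.card_eq_zero] at hs
    subst hs
    rfl
  | succ m ih =>
    intro s hs hc
    have hne : s ≠ 0 := by rintro rfl; simp at hs
    -- choose a maximal element of s
    obtain ⟨θ, hθ, hmax⟩ : ∃ θ ∈ s, ∀ b ∈ s, b ≤ θ := by
      classical
      have hfin : s.toFinset.Nonempty := by
        obtain ⟨a, ha⟩ := Multiset.exists_mem_of_ne_zero hne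
        exact ⟨a, by simpa using ha⟩
      obtain ⟨θ, hθ1, hθ2⟩ := Finset.exists_maximal hfin
      refine ⟨θ, by simpa using hθ1, fun b hb => ?_⟩
      rcases hc θ (by simpa using hθ1) b hb with h | h
      · exact hθ2 (by simpa using hb) h
      · exact h
    obtain ⟨t, rfl⟩ := Multiset.exists_cons_of_mem hθ
    obtain ⟨c, hc1, hc2⟩ := ih t (by simpa using hs) (fun a ha b hb =>
      hc a (Multiset.mem_cons_of_mem ha) b (Multiset.mem_cons_of_mem hb))
    refine ⟨Fin.cons θ c, ?_, ?_⟩
    · intro a b hab
      induction a using Fin.cases with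
      | zero =>
        induction b using Fin.cases with
        | zero => exact le_rfl
        | succ b' =>
          simp only [Fin.cons_zero, Fin.cons_succ]
          apply hmax
          apply Multiset.mem_cons_of_mem
          rw [← hc2]
          exact Multiset.mem_map_of_mem _ (Finset.mem_val.mpr (Finset.mem_univ _))
      | succ a' =>
        induction b using Fin.cases with
        | zero => exact absurd hab (by simp)
        | succ b' =>
          simp only [Fin.cons_succ]
          exact hc1 (by simpa using hab)
    · rw [Fin.univ_succ]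
      simp only [Finset.cons_val, Multiset.map_cons, Fin.cons_zero, Finset.map_val, Multiset.map_map]
      rw [← hc2]
      rfl

section span

variable [Finite P]

/-- size of the lower segment -/
noncomputable def rk (a : P) : ℕ := (Set.Iio a).ncard

omit [Finite P] in
lemma rk_lt [Finite P] {a b : P} (h : a < b) : rk a < rk b := by
  unfold rk
  apply Set.ncard_lt_ncard _ (Set.toFinite _)
  exact Set.Iio_ssubset_Iio h

/-- measure of an element -/
noncomputable def mu1 (a : P) : ℕ := 3 ^ rk a

lemma mu1_add_lt {a b α : P} (ha : a < α) (hb : b < α) : mu1 a + mu1 b < mu1 α := by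
  unfold mu1
  have h1 : 3 ^ (rk a + 1) ≤ 3 ^ rk α := Nat.pow_le_pow_right (by norm_num) (rk_lt ha)
  have h2 : 3 ^ (rk b + 1) ≤ 3 ^ rk α := Nat.pow_le_pow_right (by norm_num) (rk_lt hb)
  have h3 : 0 < 3 ^ rk a := by positivity
  rw [pow_succ] at h1 h2
  omega

lemma mu1_le (a : P) : mu1 a ≤ 3 ^ Nat.card P := by
  unfold mu1 rk
  apply Nat.pow_le_pow_right (by norm_num)
  rw [← Set.ncard_univ]
  exact Set.ncard_le_ncard (Set.subset_univ _) (Set.toFinite _)

variable {A B : Type*} [CommRing A] [CommRing B] [Algebra A B] (x : P → B)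
  (H : ∀ a b : P, ¬ a ≤ b → ¬ b ≤ a →
    x a * x b ∈ Submodule.span A {f | ∃ α β : P, a < α ∧ b < α ∧ f = x α * x β})

include H in
theorem prod_mem : ∀ (k : ℕ) (s : Multiset P), s.card * 3 ^ Nat.card P ≤ (s.map mu1).sum + k →
    (s.map x).prod ∈ Submodule.span A (Set.range (sm x)) := by
  intro k
  induction k using Nat.strong_induction_on with
  | _ k ih =>
    intro s hk
    by_cases hc : ∀ a ∈ s, ∀ b ∈ s, a ≤ b ∨ b ≤ a
    · obtain ⟨c, hc1, hc2⟩ := exists_chain s.card s rfl hc
      apply Submodule.subset_span
      refine ⟨⟨s.card, c, hc1⟩, ?_⟩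
      conv_rhs => rw [← hc2]
      rw [Multiset.map_map]
      rfl
    · push Not at hc
      obtain ⟨a, ha, b, hb, hab, hba⟩ := hc
      have hne : a ≠ b := fun h => hab h.le
      obtain ⟨t', ht'⟩ := Multiset.exists_cons_of_mem ha
      have hb' : b ∈ t' := by
        rw [ht', Multiset.mem_cons] at hb
        rcases hb with h | h
        · exact absurd h.symm hne
        · exact h
      obtain ⟨t, ht⟩ := Multiset.exists_cons_of_mem hb'
      have hst : s = a ::ₘ b ::ₘ t := by rw [ht', ht]
      have hmon : (s.map x).prod = (x a * x b) * (t.map x).prod := by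
        rw [hst]; simp [mul_assoc]
      rw [hmon]
      have hmap : (x a * x b) * (t.map x).prod ∈
          Submodule.map (LinearMap.mulRight A (t.map x).prod)
            (Submodule.span A {f | ∃ α β : P, a < α ∧ b < α ∧ f = x α * x β}) :=
        ⟨_, H a b hab hba, rfl⟩
      rw [Submodule.map_span] at hmap
      refine (Submodule.span_le.2 ?_ : _ ≤ Submodule.span A (Set.range (sm x))) hmap
      rintro _ ⟨f, ⟨α, β, hα, hβ, rfl⟩, rfl⟩
      have h2 : (LinearMap.mulRight A (t.map x).prod) (x α * x β) = ((α ::ₘ β ::ₘ t).map x).prod := by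
        simp [mul_assoc]
      rw [h2]
      have hcard : (α ::ₘ β ::ₘ t).card = s.card := by rw [hst]; simp
      have hmu : (s.map mu1).sum < ((α ::ₘ β ::ₘ t).map mu1).sum := by
        rw [hst]
        simp only [Multiset.map_cons, Multiset.sum_cons]
        have := mu1_add_lt hα hβ
        omega
      have hle : ((α ::ₘ β ::ₘ t).map mu1).sum ≤ s.card * 3 ^ Nat.card P := by
        have h3 := Multiset.sum_le_card_nsmul ((α ::ₘ β ::ₘ t).map mu1) (3 ^ Nat.card P) (by
          intro y hy
          rw [Multiset.mem_map] at hy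
          obtain ⟨θ, _, rfl⟩ := hy
          exact mu1_le θ)
        rw [Multiset.card_map, hcard, smul_eq_mul] at h3
        exact h3
      refine ih (s.card * 3 ^ Nat.card P - ((α ::ₘ β ::ₘ t).map mu1).sum) (by omega) _ ?_
      rw [hcard]
      omega

include H in
theorem span_eq_top (hx : Algebra.adjoin A (Set.range x) = ⊤) :
    Submodule.span A (Set.range (sm x)) = ⊤ := by
  rw [eq_top_iff]
  intro y _
  have hy : y ∈ Algebra.adjoin A (Set.range x) := by rw [hx]; trivial
  rw [← Subalgebra.mem_toSubmodule, Algebra.adjoin_eq_span] at hy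
  refine (Submodule.span_le.2 ?_ : _ ≤ Submodule.span A (Set.range (sm x))) hy
  intro z hz
  -- an element of the monoid generated by the generators
  have h1 : ∃ s : Multiset P, z = (s.map x).prod := by
    replace hz : z ∈ Submonoid.closure (Set.range x) := hz
    induction hz using Submonoid.closure_induction with
    | mem z hz =>
      obtain ⟨a, rfl⟩ := hz
      exact ⟨{a}, by simp⟩
    | one => exact ⟨0, by simp⟩
    | mul u v _ _ hu hv =>
      obtain ⟨s, rfl⟩ := hu
      obtain ⟨t, rfl⟩ := hv
      exact ⟨s + t, by rw [Multiset.map_add, Multiset.prod_add]⟩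
  obtain ⟨s, rfl⟩ := h1
  exact prod_mem x H _ s (Nat.le_add_left _ _)

end span

end K678.ChainSpan
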